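import Mathlib.RingTheory.MvPowerSeries.Basic
import Mathlib.RingTheory.Ideal.Operations
import Mathlib.Tactic.Abel

/-! Ideals of power series generated by finitely many monomials. -/

set_option autoImplicit false

namespace Groth.Agent.MonIdeal38

open MvPowerSeries

universe u v

variable {σ : Type v} {k : Type u} [CommRing k]

theorem mem_span_monomial_iff (s : Finset (σ →₀ ℕ)) (g : MvPowerSeries σ k) :
    g ∈ Ideal.span ((fun d => monomial d (1 : k)) '' s) ↔ ∀ e, (∀ d ∈ s, ¬ d ≤ e) → coeff e g = 0 := by
  classical
  constructor
  · intro hg e he
    induction hg using Submodule.span_induction generalizing e with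
    | mem x hx =>
      obtain ⟨d, hd, rfl⟩ := hx
      rw [coeff_monomial, if_neg]
      rintro rfl
      exact he _ hd le_rfl
    | zero => simp
    | add a b _ _ ha hb => rw [map_add, ha e he, hb e he, add_zero]
    | smul a x _ hx =>
      rw [smul_eq_mul, coeff_mul]
      refine Finset.sum_eq_zero fun p hp => ?_
      rw [Finset.HasAntidiagonal.mem_antidiagonal] at hp
      rw [hx p.2 (fun d hd hle => he d hd (hle.trans (hp ▸ le_add_left le_rfl))), mul_zero]
  · induction s using Finset.induction_on generalizing g with
    | empty =>
      intro h
      rw [show g = 0 from MvPowerSeries.ext fun e => by simpa using h e (by simp)]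
      exact zero_mem _
    | insert d s hd ih =>
      intro h
      let q : MvPowerSeries σ k := fun e => coeff (e + d) g
      have hq : ∀ e, coeff e (monomial d (1 : k) * q) = if d ≤ e then coeff e g else 0 := by
        intro e
        rw [coeff_monomial_mul, one_mul]
        split_ifs with hde
        · show coeff (e - d + d) g = _
          rw [tsub_add_cancel_of_le hde]
        · rfl
      have h2 : g - monomial d (1 : k) * q ∈ Ideal.span ((fun d => monomial d (1 : k)) '' s) := by
        refine ih _ fun e he => ?_
        rw [map_sub, hq]
        split_ifs with hde
        · rw [sub_self]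
        · rw [sub_zero]
          refine h e fun d' hd' => ?_
          rcases Finset.mem_insert.1 hd' with rfl | hd'
          exacts [hde, he d' hd']
      rw [show g = (g - monomial d (1 : k) * q) + monomial d (1 : k) * q by abel]
      refine add_mem (Ideal.span_mono (Set.image_mono (by simp)) h2)
        (Ideal.mul_mem_right _ _ (Ideal.subset_span ⟨d, by simp, rfl⟩))

end Groth.Agent.MonIdeal38
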